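import Groth.Agent.Lib.Helper38.DomainStalkIrred

/-!
# Integral open neighbourhoods of points with domain stalk (helper7)

In a reduced scheme whose irreducible components form a locally finite family, a point whose local
ring is a domain has an integral open neighbourhood.
-/

set_option autoImplicit false

namespace Groth.Agent.Lib.Helper7.RatSection

open CategoryTheory AlgebraicGeometry TopologicalSpace Groth.Agent.Lib.Helper38

universe u

theorem exists_integral_open_nhd (Y : Scheme.{u}) [IsReduced Y]
    (hcomp : LocallyFinite (fun Z : ↥(irreducibleComponents ↥Y) => (Z : Set ↥Y))) (y : Y)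
    [IsDomain (Y.presheaf.stalk y)] :
    ∃ Y₀ : Y.Opens, y ∈ Y₀ ∧ IsIntegral (Y₀ : Scheme.{u}) := by
  -- the union of the components not through `y`
  let ι := {Z : ↥(irreducibleComponents ↥Y) // y ∉ (Z : Set ↥Y)}
  have hlf : LocallyFinite (fun Z : ι => ((Z : ↥(irreducibleComponents ↥Y)) : Set ↥Y)) :=
    hcomp.comp_injective Subtype.val_injective
  have hclosed : IsClosed (⋃ Z : ι, ((Z : ↥(irreducibleComponents ↥Y)) : Set ↥Y)) :=
    hlf.isClosed_iUnion fun Z => isClosed_of_mem_irreducibleComponents _ Z.1.2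
  let Y₀ : Y.Opens := ⟨(⋃ Z : ι, ((Z : ↥(irreducibleComponents ↥Y)) : Set ↥Y))ᶜ,
    hclosed.isOpen_compl⟩
  have hyY₀ : y ∈ Y₀ := by
    change y ∉ ⋃ Z : ι, ((Z : ↥(irreducibleComponents ↥Y)) : Set ↥Y)
    rw [Set.mem_iUnion]
    rintro ⟨Z, hZ⟩
    exact Z.2 hZ
  have hsub : (Y₀ : Set Y) ⊆ irreducibleComponent y := by
    intro z hz
    have hz' : z ∉ ⋃ Z : ι, ((Z : ↥(irreducibleComponents ↥Y)) : Set ↥Y) := hz
    rw [Set.mem_iUnion] at hz'
    push_neg at hz'
    have hyz : y ∈ irreducibleComponent z := by
      by_contra hcon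
      exact hz' ⟨⟨irreducibleComponent z, irreducibleComponent_mem_irreducibleComponents z⟩, hcon⟩
        mem_irreducibleComponent
    have := irreducibleComponent_unique_of_isDomain_stalk Y y (irreducibleComponent z)
      (irreducibleComponent y) (irreducibleComponent_mem_irreducibleComponents z)
      (irreducibleComponent_mem_irreducibleComponents y) hyz mem_irreducibleComponent
    rw [← this]
    exact mem_irreducibleComponent
  have hpre : IsPreirreducible (Y₀ : Set Y) :=
    (isIrreducible_irreducibleComponent (x := y)).isPreirreducible.open_subset Y₀.2 hsub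
  have hirr : IrreducibleSpace ↥Y₀ := by
    have : PreirreducibleSpace ↥(Y₀ : Set Y) := Subtype.preirreducibleSpace hpre
    exact ⟨⟨⟨y, hyY₀⟩⟩⟩
  have hirr' : IrreducibleSpace ↥(Y₀ : Scheme.{u}) := hirr
  exact ⟨Y₀, hyY₀, isIntegral_of_irreducibleSpace_of_isReduced _⟩

end Groth.Agent.Lib.Helper7.RatSection
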