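import Groth.Agent.Lib.Helper7.RatSection.Mono
import Groth.Agent.Lib.Helper7.RatSection.Integral
import Groth.Agent.Lib.Helper61.GU7
import Groth.Agent.Lib.Helper61.GU8
import Groth.Agent.Lib.Helper61.GU10
import Groth.Agent.Lib.Helper61.GU13
import Groth.Agent.Lib.Helper69.Rigid

/-!
# Extension of rational sections of unramified morphisms at geometrically unibranch points
(helper7; EGA IV 18.10.? type statements)
-/

set_option autoImplicit false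

namespace Groth.Agent.Lib.Helper7.RatSection

open CategoryTheory Limits AlgebraicGeometry TopologicalSpace Groth.Agent.Lib.Helper61.GU

universe u

/-- A geometrically unibranch local ring of a reduced scheme is a domain. -/
theorem isDomain_stalk_of_isGeomUnibranch (Y : Scheme.{u}) [IsReduced Y] (y : Y)
    (hy : CAlg2.IsGeomUnibranch (Y.presheaf.stalk y)) : IsDomain (Y.presheaf.stalk y) := by
  have h1 : IsDomain (CAlg2.red (Y.presheaf.stalk y)) := hy.1.1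
  have h2 : nilradical (Y.presheaf.stalk y) = ⊥ := nilradical_eq_zero _
  let e : Y.presheaf.stalk y ≃+* CAlg2.red (Y.presheaf.stalk y) :=
    (RingEquiv.quotientBot _).symm.trans (Ideal.quotEquivOfEq h2.symm)
  exact e.toMulEquiv.isDomain _

/-- Step: the étale locus. Let `Y₀` be an integral open of `Y` containing `f x`, with `O_{Y, f x}`
geometrically unibranch, and suppose `x` has a generization `ξ` over the generic point of `Y₀`.
Then there are an open immersion `j : W ⟶ X` through `x` and `ξ` and an étale separated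
`g : W ⟶ Y₀` with `g ≫ Y₀.ι = j ≫ f`. -/
theorem exists_etale_piece {X Y : Scheme.{u}} (f : X ⟶ Y) [IsSeparated f] [LocallyOfFiniteType f]
    [FormallyUnramified f] (Y₀ : Y.Opens) [IsIntegral (Y₀ : Scheme.{u})] (x ξ : X)
    (hxY₀ : f x ∈ Y₀) (hy : CAlg2.IsGeomUnibranch (Y.presheaf.stalk (f x)))
    (hξx : ξ ⤳ x) (hξ : f ξ = (genericPoint (Y₀ : Scheme.{u})).1) :
    ∃ (W : Scheme.{u}) (j : W ⟶ X) (g : W ⟶ (Y₀ : Scheme.{u})) (xW ξW : W),
      IsOpenImmersion j ∧ Etale g ∧ IsSeparated g ∧ g ≫ Y₀.ι = j ≫ f ∧ j xW = x ∧ j ξW = ξ := by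
  let X₀ : X.Opens := f ⁻¹ᵁ Y₀
  let f₀ : (X₀ : Scheme.{u}) ⟶ Y₀ := f ∣_ Y₀
  have hf₀ι : f₀ ≫ Y₀.ι = X₀.ι ≫ f := morphismRestrict_ι f Y₀
  have hξY₀ : f ξ ∈ Y₀ := by rw [hξ]; exact (genericPoint (Y₀ : Scheme.{u})).2
  let x₀ : X₀ := ⟨x, hxY₀⟩
  let ξ₀ : X₀ := ⟨ξ, hξY₀⟩
  have hξ₀x₀ : ξ₀ ⤳ x₀ := (subtype_specializes_iff ξ₀ x₀).mpr hξx
  have hf₀ξ₀ : f₀ ξ₀ = genericPoint (Y₀ : Scheme.{u}) := by
    apply Y₀.ι.injective
    rw [← Scheme.Hom.comp_apply, hf₀ι, Scheme.Hom.comp_apply]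
    exact hξ
  have hf₀x₀ : f₀ x₀ = ⟨f x, hxY₀⟩ := by
    apply Y₀.ι.injective
    rw [← Scheme.Hom.comp_apply, hf₀ι, Scheme.Hom.comp_apply]
    rfl
  have hlft : LocallyOfFiniteType f₀ := IsZariskiLocalAtTarget.restrict ‹_› Y₀
  have hunr : FormallyUnramified f₀ := IsZariskiLocalAtTarget.restrict ‹_› Y₀
  have hsep : IsSeparated f₀ := IsZariskiLocalAtTarget.restrict ‹_› Y₀
  have hgu : CAlg2.IsGeomUnibranch ((Y₀ : Scheme.{u}).presheaf.stalk (f₀ x₀)) := by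
    rw [hf₀x₀]
    exact isGeomUnibranch_of_ringEquiv'
      (Y₀.stalkIso ⟨f x, hxY₀⟩).commRingCatIsoToRingEquiv.symm hy
  have hinj : Function.Injective (f₀.stalkMap x₀).hom :=
    stalkMap_injective_of_exists_generization f₀ x₀ ⟨ξ₀, hξ₀x₀, hf₀ξ₀⟩
  have hun : (f₀.stalkMap x₀).hom.FormallyUnramified := FormallyUnramified.stalkMap f₀ x₀
  obtain ⟨V₁, hx₀V₁, hV₁et⟩ := exists_etale_nhd_of_stalkMap_of_isGeomUnibranch f₀ x₀ hgu hinj hun
  have hξ₀V₁ : ξ₀ ∈ V₁ := hξ₀x₀.mem_open V₁.2 hx₀V₁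
  refine ⟨V₁, V₁.ι ≫ X₀.ι, V₁.ι ≫ f₀, ⟨x₀, hx₀V₁⟩, ⟨ξ₀, hξ₀V₁⟩, inferInstance, hV₁et,
    inferInstance, ?_, rfl, rfl⟩
  rw [Category.assoc, Category.assoc, hf₀ι]

/-- Step: shrinking so that the generic fibre is a single point. -/
theorem exists_open_fibre_singleton {W Y₀ : Scheme.{u}} [IsIntegral Y₀] (g : W ⟶ Y₀) [Etale g]
    (xW ξW : W) (hξx : ξW ⤳ xW) (hξ : g ξW = genericPoint Y₀)
    (hy : CAlg2.IsGeomUnibranch (Y₀.presheaf.stalk (g xW))) :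
    ∃ W' : W.Opens, xW ∈ W' ∧ ξW ∈ W' ∧ ∀ w ∈ W', g w = genericPoint Y₀ → w = ξW := by
  have hlqf : LocallyQuasiFinite g := locallyQuasiFinite_of_formallyUnramified g
  have hd := g.isDiscrete_preimage_singleton (genericPoint Y₀)
  have hst : (nilradical (W.presheaf.stalk xW)).IsPrime :=
    nilradical_isPrime_stalk_of_flat_of_formallyUnramified g xW (Flat.stalkMap g xW)
      (FormallyUnramified.stalkMap g xW) hy
  let z₀ : Spec (W.presheaf.stalk xW) := ⟨nilradical _, hst⟩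
  have hz₀ : ∀ ζ : W, ζ ⤳ xW → W.fromSpecStalk xW z₀ ⤳ ζ := by
    intro ζ hζ
    have : ζ ∈ Set.range (W.fromSpecStalk xW) := by
      rw [Scheme.range_fromSpecStalk]
      exact hζ
    obtain ⟨P, rfl⟩ := this
    have hPp : P.asIdeal.IsPrime := P.isPrime
    have hzP : z₀ ⤳ P := (PrimeSpectrum.le_iff_specializes z₀ P).mp
      (nilradical_le_prime P.asIdeal)
    exact hzP.map (W.fromSpecStalk xW).continuous
  set z := W.fromSpecStalk xW z₀ with hzdef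
  have hgz : g z = genericPoint Y₀ := by
    have h1 : g z ⤳ g ξW := (hz₀ ξW hξx).map g.continuous
    rw [hξ] at h1
    exact (h1.antisymm (genericPoint_specializes _)).eq
  have hzξ : z = ξW := hd.eq_of_specializes (hz₀ ξW hξx) hgz hξ
  have huniq : ∀ ζ : W, g ζ = genericPoint Y₀ → ζ ⤳ xW → ζ = ξW := by
    intro ζ hζ hζx
    have : z = ζ := hd.eq_of_specializes (hz₀ ζ hζx) hgz hζ
    rw [← this, hzξ]
  obtain ⟨W₂, hW₂o, hxW₂, hfin⟩ := exists_open_finite_inter_fibre g (genericPoint Y₀) xW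
  let B : Set W := ⋃ ζ ∈ (W₂ ∩ g ⁻¹' {genericPoint Y₀}) \ {ξW}, closure ({ζ} : Set W)
  have hB : IsClosed B :=
    (hfin.subset Set.sdiff_subset).isClosed_biUnion fun _ _ => isClosed_closure
  let W' : W.Opens := ⟨W₂ \ B, hW₂o.sdiff hB⟩
  have hxW' : xW ∈ W' := by
    refine ⟨hxW₂, ?_⟩
    intro hxB
    obtain ⟨ζ, ⟨⟨-, hζF⟩, hne⟩, hxζ⟩ := Set.mem_iUnion₂.mp hxB
    exact hne (huniq ζ hζF (specializes_iff_mem_closure.mpr hxζ))
  refine ⟨W', hxW', hξx.mem_open W'.2 hxW', ?_⟩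
  intro w hw hgw
  by_contra hne
  apply hw.2
  exact Set.mem_iUnion₂.mpr ⟨w, ⟨⟨hw.1, hgw⟩, hne⟩, subset_closure rfl⟩


/-- Main theorem (EGA IV 18.10-type statement): a rational section of a separated unramified
morphism of finite type extends over a neighbourhood of every geometrically unibranch point over
which the closure of the section meets the fibre. -/
theorem exists_section_nhd {X Y : Scheme.{u}} [IsReduced Y]
    (hcomp : LocallyFinite (fun Z : ↥(irreducibleComponents ↥Y) => (Z : Set ↥Y)))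
    (f : X ⟶ Y) [IsSeparated f] [LocallyOfFiniteType f] [FormallyUnramified f]
    (U : Y.Opens) (hU : Dense (U : Set ↥Y)) (u : (U : Scheme.{u}) ⟶ X) (hu : u ≫ f = U.ι)
    (y : Y) (hy : CAlg2.IsGeomUnibranch (Y.presheaf.stalk y))
    (hZ : (closure (Set.range u) ∩ f ⁻¹' {y}).Nonempty) :
    ∃ (V : Y.Opens) (v : (V : Scheme.{u}) ⟶ X), y ∈ V ∧ v ≫ f = V.ι ∧
      Y.homOfLE (inf_le_left : U ⊓ V ≤ U) ≫ u = Y.homOfLE (inf_le_right : U ⊓ V ≤ V) ≫ v := by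
  obtain ⟨x, hxcl, hxy⟩ := hZ
  have hxy' : f x = y := hxy
  subst hxy'
  have hdom := isDomain_stalk_of_isGeomUnibranch Y (f x) hy
  obtain ⟨Y₀, hxY₀, hint⟩ := exists_integral_open_nhd Y hcomp (f x)
  set η := genericPoint (Y₀ : Scheme.{u}) with hη
  have hηU : η.1 ∈ U := by
    obtain ⟨z, hzY₀, hzU⟩ := hU.inter_open_nonempty Y₀ Y₀.2 ⟨f x, hxY₀⟩
    have h1 : η ⤳ (⟨z, hzY₀⟩ : Y₀) := genericPoint_specializes _
    have h2 : η.1 ⤳ z := (subtype_specializes_iff η ⟨z, hzY₀⟩).mp h1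
    exact h2.mem_open U.2 hzU
  let ηU : U := ⟨η.1, hηU⟩
  let ξ : X := u ηU
  have hfξ : f ξ = η.1 := by
    change f (u ηU) = _
    rw [← Scheme.Hom.comp_apply, hu]; rfl
  have hξx : ξ ⤳ x := by
    rw [specializes_iff_forall_open]
    intro O hO hxO
    have hO' : IsOpen (O ∩ f ⁻¹' (Y₀ : Set Y)) := hO.inter (Y₀.2.preimage f.continuous)
    obtain ⟨_, ⟨hzO, hzY₀⟩, ⟨z, rfl⟩⟩ := mem_closure_iff.mp hxcl _ hO' ⟨hxO, hxY₀⟩
    have hfz : f (u z) = z.1 := by rw [← Scheme.Hom.comp_apply, hu]; rfl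
    have hzY₀' : z.1 ∈ Y₀ := by rw [← hfz]; exact hzY₀
    have h1 : η ⤳ (⟨z.1, hzY₀'⟩ : Y₀) := genericPoint_specializes _
    have h2 : η.1 ⤳ z.1 := (subtype_specializes_iff η ⟨z.1, hzY₀'⟩).mp h1
    have h3 : ηU ⤳ z := (subtype_specializes_iff ηU z).mpr h2
    have h4 : ξ ⤳ u z := h3.map u.continuous
    exact h4.mem_open hO hzO
  obtain ⟨W, j, g, xW, ξW, hj, hg, hgsep, hgj, hjx, hjξ⟩ :=
    exists_etale_piece f Y₀ x ξ hxY₀ hy hξx hfξ
  have hξWxW : ξW ⤳ xW := by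
    rw [← j.isOpenEmbedding.isInducing.specializes_iff, hjx, hjξ]; exact hξx
  have hgξW : g ξW = η := by
    apply Y₀.ι.injective
    rw [← Scheme.Hom.comp_apply, hgj, Scheme.Hom.comp_apply, hjξ]; exact hfξ
  have hgxW : g xW = ⟨f x, hxY₀⟩ := by
    apply Y₀.ι.injective
    rw [← Scheme.Hom.comp_apply, hgj, Scheme.Hom.comp_apply, hjx]; rfl
  have hgu : CAlg2.IsGeomUnibranch ((Y₀ : Scheme.{u}).presheaf.stalk (g xW)) := by
    rw [hgxW]
    exact isGeomUnibranch_of_ringEquiv'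
      (Y₀.stalkIso ⟨f x, hxY₀⟩).commRingCatIsoToRingEquiv.symm hy
  obtain ⟨W', hxW', hξW', hW'uniq⟩ := exists_open_fibre_singleton g xW ξW hξWxW hgξW hgu
  let g' : (W' : Scheme.{u}) ⟶ Y₀ := W'.ι ≫ g
  let J : (W' : Scheme.{u}) ⟶ X := W'.ι ≫ j
  have hg'J : g' ≫ Y₀.ι = J ≫ f := by simp only [g', J, Category.assoc, hgj]
  have hJξ : J ⟨ξW, hξW'⟩ = ξ := by
    change j ξW = ξ
    exact hjξ
  -- the rational point
  let s₀ : Spec ((Y₀ : Scheme.{u}).residueField η) ⟶ (U : Scheme.{u}) :=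
    IsOpenImmersion.lift U.ι ((Y₀ : Scheme.{u}).fromSpecResidueField η ≫ Y₀.ι) (by
      rintro _ ⟨p, rfl⟩
      rw [Scheme.Hom.comp_apply, Scheme.fromSpecResidueField_apply, Scheme.Opens.range_ι]
      exact hηU)
  have hs₀ : s₀ ≫ U.ι = (Y₀ : Scheme.{u}).fromSpecResidueField η ≫ Y₀.ι :=
    IsOpenImmersion.lift_fac _ _ _
  have hs₀pt : ∀ p, s₀ p = ηU := by
    intro p
    apply U.ι.injective
    rw [← Scheme.Hom.comp_apply, hs₀, Scheme.Hom.comp_apply, Scheme.fromSpecResidueField_apply]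
    rfl
  let t : Spec ((Y₀ : Scheme.{u}).residueField η) ⟶ (W' : Scheme.{u}) :=
    IsOpenImmersion.lift J (s₀ ≫ u) (by
      rintro _ ⟨p, rfl⟩
      rw [Scheme.Hom.comp_apply, hs₀pt]
      exact ⟨⟨ξW, hξW'⟩, hJξ⟩)
  have htJ : t ≫ J = s₀ ≫ u := IsOpenImmersion.lift_fac _ _ _
  have ht : t ≫ g' = (Y₀ : Scheme.{u}).fromSpecResidueField η := by
    rw [← cancel_mono Y₀.ι, Category.assoc, hg'J, reassoc_of% htJ, hu, hs₀]
  have htpt : ∀ p, t p = ⟨ξW, hξW'⟩ := by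
    intro p
    apply J.injective
    rw [← Scheme.Hom.comp_apply, htJ, Scheme.Hom.comp_apply, hs₀pt, hJξ]
  have hF : ∀ w : (W' : Scheme.{u}), g' w = genericPoint (Y₀ : Scheme.{u}) →
      w = t (IsLocalRing.closedPoint ((Y₀ : Scheme.{u}).residueField
        (genericPoint (Y₀ : Scheme.{u})))) := by
    intro w hw
    rw [htpt]
    apply Subtype.ext
    exact hW'uniq w.1 w.2 hw
  have hmono : Mono g' := mono_of_generic_fibre g' t ht hF
  have hg'open : IsOpenImmersion g' := IsOpenImmersion.of_flat_of_mono g'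
  let G : (W' : Scheme.{u}) ⟶ Y := g' ≫ Y₀.ι
  let V : Y.Opens := G.opensRange
  let e : (W' : Scheme.{u}) ≅ V := G.isoOpensRange
  have heG : e.inv ≫ G = V.ι := G.isoOpensRange_inv_comp
  let v : (V : Scheme.{u}) ⟶ X := e.inv ≫ J
  have hvf : v ≫ f = V.ι := by
    change (e.inv ≫ J) ≫ f = _
    rw [Category.assoc, ← hg'J]
    exact heG
  have hGx : G ⟨xW, hxW'⟩ = f x := by
    change Y₀.ι (g xW) = f x
    rw [hgxW]
    rfl
  have hGξ : G ⟨ξW, hξW'⟩ = η.1 := by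
    change Y₀.ι (g ξW) = η.1
    rw [hgξW]
    rfl
  have hVY₀ : (V : Set Y) ⊆ Y₀ := by
    rintro _ ⟨w, rfl⟩
    exact (g' w).2
  refine ⟨V, v, ⟨_, hGx⟩, hvf, ?_⟩
  -- agreement on `U ⊓ V`
  have hηV : η.1 ∈ V := ⟨_, hGξ⟩
  have hpre : IsPreirreducible ((U ⊓ V : Y.Opens) : Set Y) := by
    have hY₀irr : IsPreirreducible (Y₀ : Set Y) := by
      have : IrreducibleSpace ↥(Y₀ : Set Y) :=
        (inferInstance : IrreducibleSpace ↥(Y₀ : Scheme.{u}))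
      exact (IsIrreducible.of_subtype (s := (Y₀ : Set Y))).isPreirreducible
    exact hY₀irr.open_subset (U ⊓ V).2 (fun z hz => hVY₀ hz.2)
  have hconn : ConnectedSpace ↥((U ⊓ V : Y.Opens) : Scheme.{u}) := by
    have h1 : PreirreducibleSpace ↥((U ⊓ V : Y.Opens) : Set Y) :=
      Subtype.preirreducibleSpace hpre
    have h2 : IrreducibleSpace ↥((U ⊓ V : Y.Opens) : Set Y) := ⟨⟨⟨η.1, hηU, hηV⟩⟩⟩
    have h3 : IrreducibleSpace ↥((U ⊓ V : Y.Opens) : Scheme.{u}) := h2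
    infer_instance
  let a : ((U ⊓ V : Y.Opens) : Scheme.{u}) ⟶ X := Y.homOfLE (inf_le_left : U ⊓ V ≤ U) ≫ u
  let b : ((U ⊓ V : Y.Opens) : Scheme.{u}) ⟶ X := Y.homOfLE (inf_le_right : U ⊓ V ≤ V) ≫ v
  have haf : a ≫ f = (U ⊓ V).ι := by
    change (_ ≫ u) ≫ f = _
    rw [Category.assoc, hu, Scheme.homOfLE_ι]
  have hbf : b ≫ f = (U ⊓ V).ι := by
    change (_ ≫ v) ≫ f = _
    rw [Category.assoc, hvf, Scheme.homOfLE_ι]
  let N : ((U ⊓ V : Y.Opens) : Scheme.{u}).Opens := a ⁻¹ᵁ J.opensRange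
  let η' : ((U ⊓ V : Y.Opens) : Scheme.{u}) := ⟨η.1, hηU, hηV⟩
  have haη' : a η' = ξ := by
    change u (Y.homOfLE (inf_le_left : U ⊓ V ≤ U) η') = u ηU
    congr 1
    exact Subtype.ext (Scheme.homOfLE_apply _ _)
  have hη'N : η' ∈ N := by
    change a η' ∈ Set.range J
    rw [haη']
    exact ⟨_, hJξ⟩
  have hNne : Nonempty ↥(N : Scheme.{u}) := ⟨⟨η', hη'N⟩⟩
  let a'' : (N : Scheme.{u}) ⟶ (W' : Scheme.{u}) :=
    IsOpenImmersion.lift J (N.ι ≫ a) (by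
      rintro _ ⟨p, rfl⟩
      rw [Scheme.Hom.comp_apply]
      exact p.2)
  have ha'' : a'' ≫ J = N.ι ≫ a := IsOpenImmersion.lift_fac _ _ _
  let b'' : (N : Scheme.{u}) ⟶ (W' : Scheme.{u}) :=
    N.ι ≫ Y.homOfLE (inf_le_right : U ⊓ V ≤ V) ≫ e.inv
  have hb'' : b'' ≫ J = N.ι ≫ b := by
    simp only [b'', b, v, Category.assoc]
  have hab : a'' = b'' := by
    rw [← cancel_mono G]
    have h1 : a'' ≫ G = N.ι ≫ (U ⊓ V).ι := by
      change a'' ≫ g' ≫ Y₀.ι = _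
      rw [hg'J, reassoc_of% ha'', haf]
    have h2 : b'' ≫ G = N.ι ≫ (U ⊓ V).ι := by
      change (N.ι ≫ Y.homOfLE (inf_le_right : U ⊓ V ≤ V) ≫ e.inv) ≫ G = _
      rw [Category.assoc, Category.assoc, heG, Scheme.homOfLE_ι]
    rw [h1, h2]
  exact Groth.Agent.Lib.Helper69.eq_of_comp_eq_of_connected f a b (haf.trans hbf.symm) N.ι
    (by rw [← ha'', ← hb'', hab])

end Groth.Agent.Lib.Helper7.RatSection
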