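import Groth.Agent.Lib.Helper7.EtaleNbhd

/-!
# Étale, separated, generically an isomorphism ⇒ monomorphism (helper7)

`mono_of_generic_fibre`: an étale separated morphism `g : W ⟶ Y` to an irreducible scheme whose
fibre over the generic point is a single rational point is a monomorphism (hence an open
immersion).
-/

set_option autoImplicit false

namespace Groth.Agent.Lib.Helper7.RatSection

open CategoryTheory Limits AlgebraicGeometry TopologicalSpace Groth.Agent.Lib.Helper7.EtaleNbhd

universe u

theorem mono_of_generic_fibre {W Y : Scheme.{u}} [IrreducibleSpace Y] (g : W ⟶ Y) [Etale g]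
    [IsSeparated g] (t : Spec (Y.residueField (genericPoint Y)) ⟶ W)
    (ht : t ≫ g = Y.fromSpecResidueField (genericPoint Y))
    (hF : ∀ w : W, g w = genericPoint Y →
      w = t (IsLocalRing.closedPoint (Y.residueField (genericPoint Y)))) : Mono g := by
  obtain ⟨hξ, hiso⟩ := isIso_residueFieldMap_of_section g _ t ht
  set ξ := t (IsLocalRing.closedPoint (Y.residueField (genericPoint Y))) with hξdef
  rw [← pullback.isIso_diagonal_iff]
  have hΔo : IsOpenImmersion (pullback.diagonal g) := inferInstance
  have hΔc : IsClosedImmersion (pullback.diagonal g) := inferInstance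
  refine (isIso_iff_isOpenImmersion_and_surjective _).mpr ⟨hΔo, ⟨fun d => ?_⟩⟩
  have hgen : GeneralizingMap (pullback.fst g g ≫ g) := Flat.generalizingMap _
  obtain ⟨d', hd'd, hd'⟩ := hgen (a := d) (b := genericPoint Y) (genericPoint_specializes _)
  have h1 : pullback.fst g g d' = ξ := hF _ (by rw [← Scheme.Hom.comp_apply]; exact hd')
  have h2 : pullback.snd g g d' = ξ :=
    hF _ (by rw [← Scheme.Hom.comp_apply, ← pullback.condition]; exact hd')
  have e1 : pullback.fst g g (pullback.diagonal g ξ) = ξ := by
    rw [← Scheme.Hom.comp_apply, pullback.diagonal_fst]; rfl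
  have e2 : pullback.snd g g (pullback.diagonal g ξ) = ξ := by
    rw [← Scheme.Hom.comp_apply, pullback.diagonal_snd]; rfl
  have hiso' : IsIso (g.residueFieldMap (pullback.snd g g (pullback.diagonal g ξ))) := by
    rw [e2]; exact hiso
  have hd'eq : d' = pullback.diagonal g ξ :=
    eq_of_fst_eq_of_snd_eq g g d' _ (h1.trans e1.symm) (h2.trans e2.symm) hiso'
  have hcl : IsClosed (Set.range (pullback.diagonal g)) :=
    (pullback.diagonal g).isClosedEmbedding.isClosed_range
  exact hd'd.mem_closed hcl ⟨ξ, hd'eq.symm⟩

end Groth.Agent.Lib.Helper7.RatSection
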